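import Groth.Agent.MorSch.K130.Fibre

/-!
# A chart of a family of rational curves with polynomial coordinates
-/

set_option autoImplicit false
universe u

open CategoryTheory CategoryTheory.Limits AlgebraicGeometry TopologicalSpace Polynomial

namespace K130.Chart

open CohB1 K329.Pt K329.P1Gen K130.TupFam

section Loc

variable (k : Type u) [Field k] {A : Type u} [CommRing A] [IsDomain A] [Algebra k A]

/-- the embedding of a localization into the fraction field -/
noncomputable def toFrac (f : A[X]) (hf : f ≠ 0) : Localization.Away f →ₐ[k] FractionRing A[X] :=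
  IsLocalization.liftAlgHom (M := Submonoid.powers f) (f := IsScalarTower.toAlgHom k A[X] (FractionRing A[X])) (by
    rintro ⟨_, n, rfl⟩
    refine isUnit_iff_ne_zero.2 ?_
    have h1 : algebraMap A[X] (FractionRing A[X]) (f ^ n) ≠ 0 :=
      (map_ne_zero_iff _ (IsFractionRing.injective A[X] (FractionRing A[X]))).2 (pow_ne_zero n hf)
    exact h1)

lemma toFrac_algebraMap (f : A[X]) (hf : f ≠ 0) (a : A[X]) :
    toFrac k f hf (algebraMap A[X] (Localization.Away f) a) = algebraMap A[X] (FractionRing A[X]) a :=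
  IsLocalization.lift_eq _ a

lemma toFrac_injective (f : A[X]) (hf : f ≠ 0) : Function.Injective (toFrac k f hf) := by
  refine (IsLocalization.lift_injective_iff (M := Submonoid.powers f) _).2 fun x y => ?_
  have h1 := IsLocalization.injective (Localization.Away f) (powers_le_nonZeroDivisors_of_noZeroDivisors hf)
  have h2 := IsFractionRing.injective A[X] (FractionRing A[X])
  constructor
  · intro h
    rw [h1 h]
  · intro h
    rw [h2 h]

end Loc

variable {k : Type u} [Field k] {X : Scheme.{u}} {pX : X ⟶ Spec (CommRingCat.of k)} {N : ℕ}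

theorem exists_chart (ι : X ⟶ ProjSpace N k) (hι : ι ≫ ProjSpace.toSpec N k = pX) (F : MorSch.RatFam k pX) :
    ∃ (A : Type u) (_ : CommRing A) (_ : IsDomain A) (_ : Algebra k A) (j : Spec (CommRingCat.of A) ⟶ F.M)
      (_ : j ≫ F.m = mS k A) (f : A[X]) (_ : f ≠ 0)
      (c : Spec (CommRingCat.of (Localization.Away f)) ⟶ (F.e.domain : Scheme.{u}))
      (G : Fin (N + 1) → A[X]) (i : Fin (N + 1)) (hi : IsUnit (algebraMap A[X] (Localization.Away f) (G i))),
      IsOpenImmersion c ∧
      c ≫ F.e.domain.ι ≫ pullback.fst _ _ = pt1 k (algebraMap A[X] (Localization.Away f) Polynomial.X) ∧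
      c ≫ F.toM = prj f ≫ j ∧
      c ≫ F.e.hom ≫ ι = pt k (fun l => algebraMap A[X] (Localization.Away f) (G l)) i hi := by
  have hM : IsIntegral F.M := F.isVar.1
  obtain ⟨x⟩ : Nonempty F.M := inferInstance
  obtain ⟨_, ⟨U, hU, rfl⟩, hxU, -⟩ := F.M.isBasis_affineOpens.exists_subset_of_mem_open (Set.mem_univ x) isOpen_univ
  have hUne : Nonempty U := ⟨⟨x, hxU⟩⟩
  let A : Type u := Γ(F.M, U)
  let j : Spec (CommRingCat.of A) ⟶ F.M := hU.fromSpec
  have hA : IsDomain A := inferInstanceAs (IsDomain Γ(F.M, U))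
  let φ : CommRingCat.of k ⟶ CommRingCat.of A := Spec.preimage (j ≫ F.m)
  let _ : Algebra k A := φ.hom.toAlgebra
  have hj : j ≫ F.m = mS k A := by
    change _ = Spec.map (CommRingCat.ofHom φ.hom)
    rw [CommRingCat.ofHom_hom, Spec.map_preimage]
  have hjo : IsOpenImmersion j := inferInstanceAs (IsOpenImmersion hU.fromSpec)
  let P := MorSch.P1Prod k F.m
  let c₁ : MorSch.P1Prod k (mS k A) ⟶ P :=
    pullback.map (ProjSpace.toSpec 1 k) (mS k A) (ProjSpace.toSpec 1 k) F.m (𝟙 _) j (𝟙 _) (by simp)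
      (by rw [Category.comp_id, hj])
  let c₀ : Spec (CommRingCat.of A[X]) ⟶ P := sA k A ≫ c₁
  have hc₀1 : c₀ ≫ pullback.fst _ _ = pt1 k (Polynomial.X : A[X]) := by
    have h1 : c₁ ≫ pullback.fst (ProjSpace.toSpec 1 k) F.m = pullback.fst _ _ := by
      rw [show c₁ = pullback.map _ _ _ _ _ _ _ _ _ from rfl, pullback.map, pullback.lift_fst, Category.comp_id]
    rw [Category.assoc, h1, sA_fst]
  have hc₀2 : c₀ ≫ pullback.snd _ _ = Spec.map (CommRingCat.ofHom (C : A →+* A[X])) ≫ j := by
    have h1 : c₁ ≫ pullback.snd (ProjSpace.toSpec 1 k) F.m = pullback.snd _ _ ≫ j := by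
      rw [show c₁ = pullback.map _ _ _ _ _ _ _ _ _ from rfl, pullback.map, pullback.lift_snd]
    rw [Category.assoc, h1, ← Category.assoc, sA_snd]
  have hc₀o : IsOpenImmersion c₀ := inferInstance
  let D := F.e.domain
  -- a basic open
  obtain ⟨_, hyD, y, rfl⟩ : ((D : Set P) ∩ Set.range c₀).Nonempty := by
    obtain ⟨y₀⟩ : Nonempty (Spec (CommRingCat.of A[X])) := inferInstanceAs (Nonempty (PrimeSpectrum A[X]))
    have := F.e.dense_domain.inter_open_nonempty _ (IsOpenImmersion.isOpen_range c₀) ⟨_, y₀, rfl⟩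
    rwa [Set.inter_comm] at this
  obtain ⟨_, ⟨f₀, rfl⟩, hyf, hfD⟩ := PrimeSpectrum.isTopologicalBasis_basic_opens.exists_subset_of_mem_open
    (show y ∈ c₀ ⁻¹' (D : Set P) from hyD) (D.2.preimage c₀.continuous)
  have hf₀ : f₀ ≠ 0 := by
    rintro rfl
    exact hyf (Ideal.zero_mem _)
  -- the lifts
  have hlift : ∀ (B : Type u) [CommRing B] (ψ : A[X] →+* B), IsUnit (ψ f₀) →
      Set.range (Spec.map (CommRingCat.ofHom ψ) ≫ c₀) ⊆ Set.range D.ι := by
    rintro B _ ψ hψ _ ⟨z, rfl⟩
    rw [Scheme.Opens.range_ι]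
    refine hfD (show f₀ ∉ (PrimeSpectrum.comap ψ z).asIdeal from fun h => ?_)
    exact z.2.ne_top (Ideal.eq_top_of_isUnit_mem _ h hψ)
  let K := FractionRing A[X]
  have hinj : Function.Injective (algebraMap A[X] K) := IsFractionRing.injective A[X] K
  have hKf : IsUnit (algebraMap A[X] K f₀) := isUnit_iff_ne_zero.2 ((map_ne_zero_iff _ hinj).2 hf₀)
  let κ : Spec (CommRingCat.of K) ⟶ (D : Scheme.{u}) := IsOpenImmersion.lift D.ι _ (hlift K (algebraMap A[X] K) hKf)
  have hκ : κ ≫ D.ι = Spec.map (CommRingCat.ofHom (algebraMap A[X] K)) ≫ c₀ := IsOpenImmersion.lift_fac _ _ _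
  have hpt1 : ∀ (B : Type u) [CommRing B] [Algebra k B] (ψ : A[X] →ₐ[k] B),
      Spec.map (CommRingCat.ofHom (ψ : A[X] →+* B)) ≫ c₀ ≫ pullback.fst _ _ ≫ ProjSpace.toSpec 1 k =
        Spec.map (CommRingCat.ofHom (algebraMap k B)) := by
    intro B _ _ ψ
    rw [← Category.assoc c₀, hc₀1, ← Category.assoc, map_pt1, pt1_toSpec]
  obtain ⟨b, i, hi, hb⟩ := exists_pt k (κ ≫ F.e.hom ≫ ι) (by
    rw [Category.assoc, Category.assoc, hι, F.comm, ← Category.assoc κ, hκ, Category.assoc]
    exact hpt1 K (IsScalarTower.toAlgHom k A[X] K))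
  obtain ⟨q, hq⟩ := IsLocalization.exist_integer_multiples_of_finite (nonZeroDivisors A[X]) b
  choose G hG using hq
  have hq0 : algebraMap A[X] K (q : A[X]) ≠ 0 :=
    IsLocalization.to_map_ne_zero_of_mem_nonZeroDivisors _ le_rfl q.2
  have hc : ∀ l, algebraMap A[X] K (G l) = algebraMap A[X] K (q : A[X]) * b l := by
    intro l
    rw [hG l, Algebra.smul_def]
  have hGi : G i ≠ 0 := by
    intro h0
    have h1 := hc i
    rw [h0, map_zero] at h1
    exact (mul_ne_zero hq0 hi.ne_zero) h1.symm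
  let f := f₀ * G i
  have hf : f ≠ 0 := mul_ne_zero hf₀ hGi
  let B := Localization.Away f
  have huf : IsUnit (algebraMap A[X] B f) := IsLocalization.Away.algebraMap_isUnit f
  have hu1 : IsUnit (algebraMap A[X] B f₀) := by
    rw [map_mul] at huf
    exact isUnit_of_mul_isUnit_left huf
  have hu2 : IsUnit (algebraMap A[X] B (G i)) := by
    rw [map_mul] at huf
    exact isUnit_of_mul_isUnit_right huf
  let c : Spec (CommRingCat.of B) ⟶ (D : Scheme.{u}) := IsOpenImmersion.lift D.ι _ (hlift B (algebraMap A[X] B) hu1)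
  have hcι : c ≫ D.ι = Spec.map (CommRingCat.ofHom (algebraMap A[X] B)) ≫ c₀ := IsOpenImmersion.lift_fac _ _ _
  have hB : IsDomain B := IsLocalization.isDomain_of_le_nonZeroDivisors (M := Submonoid.powers f) _
    (powers_le_nonZeroDivisors_of_noZeroDivisors hf)
  refine ⟨A, inferInstance, hA, inferInstance, j, hj, f, hf, c, G, i, hu2, ?_, ?_, ?_, ?_⟩
  · have h1 : IsOpenImmersion (Spec.map (CommRingCat.ofHom (algebraMap A[X] B))) := inferInstance
    have h2 : IsOpenImmersion (c ≫ D.ι) := by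
      rw [hcι]
      infer_instance
    exact IsOpenImmersion.of_comp c D.ι
  · rw [← Category.assoc, hcι, Category.assoc, hc₀1]
    exact map_pt1 k (IsScalarTower.toAlgHom k A[X] B) Polynomial.X
  · have h1 : c ≫ F.toM = (c ≫ D.ι) ≫ pullback.snd _ _ := by simp [MorSch.RatFam.toM, D]
    rw [h1, hcι, Category.assoc, hc₀2, ← Category.assoc, ← Spec.map_comp]
    rfl
  · refine eq_pt_of_injective k (toFrac k f hf) (toFrac_injective k f hf) _ ?_ _ i hu2 ?_
    · rw [Category.assoc, Category.assoc, hι, F.comm, ← Category.assoc c, hcι, Category.assoc]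
      exact hpt1 B (IsScalarTower.toAlgHom k A[X] B)
    · have h1 : Spec.map (CommRingCat.ofHom (toFrac k f hf : B →+* K)) ≫ c = κ := by
        rw [← cancel_mono D.ι, Category.assoc, hcι, hκ, ← Category.assoc, ← Spec.map_comp]
        congr 2
        apply CommRingCat.hom_ext
        apply RingHom.ext
        intro a
        exact toFrac_algebraMap k f hf a
      rw [← Category.assoc, h1, hb]
      refine (pt_smul k _ (isUnit_iff_ne_zero.2 hq0) b i hi _ (fun l => ?_) i _).symm
      rw [toFrac_algebraMap]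
      exact hc l

end K130.Chart
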