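import Groth.Agent.Curves.K329.Limit
import Groth.Agent.S4367

/-!
# Forms cutting out a closed subset of projective space

`Forms T`: the forms of positive degree whose nonvanishing locus avoids `T`. `exists_form`: they define `T` if `T` is
closed. `range_subset`: a `Spec B`-point of `P^N` with coordinates in `A[X]`, whose values at the elements of the
infinite field `k` are killed by the forms of `T`, has image in `T`.
-/

set_option autoImplicit false
universe u

open CategoryTheory AlgebraicGeometry TopologicalSpace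

namespace K130.ConeForms

open CohB1 K329.Pt Groth.Agent.VarietyB.ProjHom

variable (k : Type u) [Field k] {N : ℕ}

lemma preimage_basicOpen {B : Type u} [CommRing B] [Algebra k B] (b : Fin (N + 1) → B) (i : Fin (N + 1))
    (hi : IsUnit (b i)) {n : ℕ} (hn : 0 < n) {G : MvPolynomial (Fin (N + 1)) k} (hG : G ∈ polyGrading N k n) :
    pt k b i hi ⁻¹ᵁ Proj.basicOpen (polyGrading N k) G = (Spec (CommRingCat.of B)).basicOpen (evΓ k b G) := by
  rw [pt_eq_toProj]
  exact toProj_preimage_basicOpen _ _ _ _ _ hG hn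

lemma mem_basicOpen_iff {B : Type u} [CommRing B] [Algebra k B] (b : Fin (N + 1) → B) (i : Fin (N + 1))
    (hi : IsUnit (b i)) {n : ℕ} (hn : 0 < n) {G : MvPolynomial (Fin (N + 1)) k} (hG : G ∈ polyGrading N k n)
    (x : Spec (CommRingCat.of B)) :
    pt k b i hi x ∈ Proj.basicOpen (polyGrading N k) G ↔ ev k b G ∉ PrimeSpectrum.asIdeal x := by
  have h1 : pt k b i hi x ∈ Proj.basicOpen (polyGrading N k) G ↔
      x ∈ (Spec (CommRingCat.of B)).basicOpen (evΓ k b G) := by
    rw [← preimage_basicOpen k b i hi hn hG]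
    rfl
  rw [h1, evΓ, RingHom.comp_apply]
  have h2 := basicOpen_eq_of_affine (R := CommRingCat.of B) (ev k b G)
  rw [h2]
  rfl

/-- The forms of positive degree whose nonvanishing locus avoids `T`. -/
def Forms (T : Set (ProjSpace N k)) : Set (MvPolynomial (Fin (N + 1)) k) :=
  {G | ∃ n : ℕ, 0 < n ∧ G ∈ polyGrading N k n ∧ ∀ x : ProjSpace N k, x ∈ Proj.basicOpen (polyGrading N k) G → x ∉ T}

variable {k}

lemma exists_form_aux {T : Set (ProjectiveSpectrum (polyGrading N k))} (hT : IsClosed T)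
    (p : ProjectiveSpectrum (polyGrading N k)) (hp : p ∉ T) (i : Fin (N + 1))
    (hi' : p ∈ ProjectiveSpectrum.basicOpen (polyGrading N k) (MvPolynomial.X i)) :
    ∃ (n : ℕ) (G : MvPolynomial (Fin (N + 1)) k), 0 < n ∧ G ∈ polyGrading N k n ∧
      (∀ x, x ∈ ProjectiveSpectrum.basicOpen (polyGrading N k) G → x ∉ T) ∧
      p ∈ ProjectiveSpectrum.basicOpen (polyGrading N k) G := by
  classical
  have hb := ProjectiveSpectrum.isTopologicalBasis_basic_opens (polyGrading N k)
  obtain ⟨_, ⟨r, rfl⟩, hpr, hrT⟩ := hb.exists_subset_of_mem_open (show p ∈ Tᶜ from hp) hT.isOpen_compl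
  -- a homogeneous component
  have h1 := ProjectiveSpectrum.basicOpen_eq_union_of_projection (polyGrading N k) r
  have hpr' : p ∈ ProjectiveSpectrum.basicOpen (polyGrading N k) r := hpr
  rw [h1, TopologicalSpace.Opens.mem_iSup] at hpr'
  obtain ⟨n, hn⟩ := hpr'
  refine ⟨n + 1, GradedRing.proj (polyGrading N k) n r * MvPolynomial.X i, Nat.succ_pos n, ?_, ?_, ?_⟩
  · have h3 : GradedRing.proj (polyGrading N k) n r ∈ polyGrading N k n := by
      rw [GradedRing.proj_apply]
      exact SetLike.coe_mem _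
    exact SetLike.mul_mem_graded h3 (Groth.Agent.Sga5.ProjChart.X_mem N k i)
  · intro q h4 hqT
    rw [ProjectiveSpectrum.basicOpen_mul] at h4
    have h5 : q ∈ ProjectiveSpectrum.basicOpen (polyGrading N k) r := by
      rw [h1]
      exact (TopologicalSpace.Opens.mem_iSup).2 ⟨n, h4.1⟩
    exact hrT h5 hqT
  · rw [ProjectiveSpectrum.basicOpen_mul]
    exact ⟨hn, hi'⟩

theorem exists_form {T : Set (ProjSpace N k)} (hT : IsClosed T) (p : ProjSpace N k) (hp : p ∉ T) :
    ∃ G ∈ Forms k T, p ∈ Proj.basicOpen (polyGrading N k) G := by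
  obtain ⟨i, hi⟩ := Groth.Agent.Sga7.H132.ProjPts.exists_mem_range N k p
  have hi' : p ∈ Proj.basicOpen (polyGrading N k) (MvPolynomial.X i) := by
    have h2 : (Groth.Agent.Sga7.H132.ProjPts.chart N k i).opensRange =
        Proj.basicOpen (polyGrading N k) (MvPolynomial.X i) :=
      Proj.opensRange_awayι (polyGrading N k) (MvPolynomial.X i : MvPolynomial (Fin (N + 1)) k)
        (Groth.Agent.Sga5.ProjChart.X_mem N k i) Nat.one_pos
    rw [← h2]
    exact hi
  obtain ⟨n, G, hn, hGn, hG, hpG⟩ := exists_form_aux (k := k) (N := N) (T := T) hT p hp i hi'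
  exact ⟨G, ⟨n, hn, hGn, hG⟩, hpG⟩

/-- The values of the forms of `T` at a point with image in `T` vanish. -/
lemma ev_eq_zero {T : Set (ProjSpace N k)} {G : MvPolynomial (Fin (N + 1)) k} (hG : G ∈ Forms k T)
    {F : Type u} [Field F] [Algebra k F] (b : Fin (N + 1) → F) (i : Fin (N + 1)) (hi : IsUnit (b i))
    (h : pt k b i hi (IsLocalRing.closedPoint F) ∈ T) : ev k b G = 0 := by
  obtain ⟨n, hn, hGn, hdis⟩ := hG
  by_contra hne
  have h1 : pt k b i hi (IsLocalRing.closedPoint F) ∈ Proj.basicOpen (polyGrading N k) G := by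
    rw [mem_basicOpen_iff k b i hi hn hGn]
    intro h2
    have h3 : (IsLocalRing.closedPoint F).asIdeal = ⊥ := IsLocalRing.maximalIdeal_eq_bot
    have h4 : ev k b G ∈ (IsLocalRing.closedPoint F).asIdeal := h2
    rw [h3] at h4
    exact hne h4
  exact hdis _ h1 h

lemma ev_zero_of_forms {T : Set (ProjSpace N k)} {G : MvPolynomial (Fin (N + 1)) k} (hG : G ∈ Forms k T)
    {F : Type u} [CommRing F] [Algebra k F] : ev k (fun _ : Fin (N + 1) => (0 : F)) G = 0 := by
  obtain ⟨n, hn, hGn, -⟩ := hG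
  have h := ev_smul_of_mem k (0 : F) (fun _ : Fin (N + 1) => (0 : F)) n G hGn
  simp only [mul_zero] at h
  rw [h, zero_pow hn.ne', zero_mul]

end K130.ConeForms
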