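import Groth.Agent.MorSch.K130.Param

/-!
# Every rational curve occurs in one of countably many families
-/

set_option autoImplicit false
universe u

open CategoryTheory CategoryTheory.Limits AlgebraicGeometry TopologicalSpace Polynomial

namespace K130.CurveIdx

open CohB1 K329.Pt K329.P1Gen K329.Curve K130.ConeForms K130.TupFam K130.Param

variable {k : Type u} [Field k] {N : ℕ}

/-- Polynomial coordinates of a morphism from the projective line. -/
theorem exists_poly (R : ProjSpace 1 k ⟶ ProjSpace N k) (hR : R ≫ ProjSpace.toSpec N k = ProjSpace.toSpec 1 k) :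
    ∃ (h : Fin (N + 1) → k[X]) (i : Fin (N + 1)) (hi : IsUnit (Polynomial.aeval (RatFunc.X : RatFunc k) (h i))),
      genP k ≫ R = pt k (fun l => Polynomial.aeval (RatFunc.X : RatFunc k) (h l)) i hi := by
  obtain ⟨b, i, hi, hb⟩ := exists_pt k (genP k ≫ R) (by rw [Category.assoc, hR, genP_toSpec])
  obtain ⟨q, hq⟩ := IsLocalization.exist_integer_multiples_of_finite (nonZeroDivisors k[X]) b
  choose h hh using hq
  have hq0 : algebraMap k[X] (RatFunc k) (q : k[X]) ≠ 0 :=
    IsLocalization.to_map_ne_zero_of_mem_nonZeroDivisors _ le_rfl q.2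
  have hc : ∀ l, Polynomial.aeval (RatFunc.X : RatFunc k) (h l) = algebraMap k[X] (RatFunc k) (q : k[X]) * b l := by
    intro l
    rw [aeval_ratFunc, hh l, Algebra.smul_def]
  have hu : IsUnit (Polynomial.aeval (RatFunc.X : RatFunc k) (h i)) := by
    rw [hc]
    exact (isUnit_iff_ne_zero.2 hq0).mul hi
  refine ⟨h, i, hu, ?_⟩
  rw [hb]
  exact (pt_smul k _ (isUnit_iff_ne_zero.2 hq0) b i hi _ hc i hu).symm

variable {X : Scheme.{u}} (pX : X ⟶ Spec (CommRingCat.of k)) (ι : X ⟶ ProjSpace N k)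

theorem ev_eq_zero' (g : ProjSpace 1 k ⟶ X) (hR : (g ≫ ι) ≫ ProjSpace.toSpec N k = ProjSpace.toSpec 1 k)
    (h : Fin (N + 1) → k[X]) (i : Fin (N + 1))
    (hi : IsUnit (Polynomial.aeval (RatFunc.X : RatFunc k) (h i)))
    (hgen : genP k ≫ g ≫ ι = pt k (fun l => Polynomial.aeval (RatFunc.X : RatFunc k) (h l)) i hi)
    (G : MvPolynomial (Fin (N + 1)) k) (hG : G ∈ Forms k (Set.range ι)) (u : k) :
    ev k (fun l => (h l).eval u) G = 0 := by
  by_cases h0 : ∀ l, (h l).eval u = 0
  · have : (fun l => (h l).eval u) = fun _ => (0 : k) := funext h0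
    rw [this]
    exact ev_zero_of_forms hG
  · push Not at h0
    obtain ⟨j, hj⟩ := h0
    have hj' : IsUnit (Polynomial.aeval u (h j)) := by
      rw [Polynomial.coe_aeval_eq_eval]
      exact isUnit_iff_ne_zero.2 hj
    have h1 := K329.Limit.pt1_comp (g ≫ ι) hR h i hi hgen u j hj'
    have h2 : (fun l => Polynomial.aeval u (h l)) = fun l => (h l).eval u := by
      funext l
      rw [Polynomial.coe_aeval_eq_eval]
    have h3 : ev k (fun l => Polynomial.aeval u (h l)) G = 0 := by
      refine ev_eq_zero hG _ j hj' ?_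
      rw [← h1]
      exact ⟨(pt1 k u ≫ g) (IsLocalRing.closedPoint k), rfl⟩
    rwa [h2] at h3

lemma comp_prj {A : Type u} [CommRing A] (f : A[X]) {L : Type u} [CommRing L] [Algebra k L]
    (θ : Localization.Away f →+* L) (ψ : A →+* k)
    (h : ∀ a, θ (algebraMap A[X] (Localization.Away f) (C a)) = algebraMap k L (ψ a)) :
    Spec.map (CommRingCat.ofHom θ) ≫ prj f =
      Spec.map (CommRingCat.ofHom (algebraMap k L)) ≫ Spec.map (CommRingCat.ofHom ψ) := by
  rw [prj, ← Spec.map_comp, ← Spec.map_comp]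
  congr 1
  apply CommRingCat.hom_ext
  apply RingHom.ext
  exact h

lemma prj_eq {A : Type u} [CommRing A] (f : A[X]) {L : Type u} [CommRing L] [Algebra k L]
    (θ : Localization.Away f →+* L) (ψ : A →+* k)
    (h : ∀ a, θ (algebraMap A[X] (Localization.Away f) (C a)) = algebraMap k L (ψ a))
    (v v' : Spec (CommRingCat.of L)) :
    prj f (Spec.map (CommRingCat.ofHom θ) v) = prj f (Spec.map (CommRingCat.ofHom θ) v') := by
  have h2 : ∀ v : Spec (CommRingCat.of L), prj f (Spec.map (CommRingCat.ofHom θ) v) =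
      Spec.map (CommRingCat.ofHom ψ) (Spec.map (CommRingCat.ofHom (algebraMap k L)) v) := by
    intro v
    exact congrArg (fun q : Spec (CommRingCat.of L) ⟶ Spec (CommRingCat.of A) => q v) (comp_prj f θ ψ h)
  rw [h2, h2]
  congr 1
  exact Subsingleton.elim _ _

theorem exists_index [IsAlgClosed k] [IsSeparated pX] [IsClosedImmersion ι] (hι : ι ≫ ProjSpace.toSpec N k = pX)
    (g : ProjSpace 1 k ⟶ X) (hg : g ≫ pX = ProjSpace.toSpec 1 k) (hnc : ¬ ∃ y : X, Set.range g.base ⊆ {y}) :
    ∃ (d : ℕ) (P : Ideal (RR k N d)) (i : Fin (N + 1)), P ∈ (J k d (Set.range ι)).minimalPrimes ∧ Q P i ∧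
      Set.range g ⊆ closure (ι ⁻¹' Set.range (Phi k (tup (cbar P)) i)) := by
  have hR : (g ≫ ι) ≫ ProjSpace.toSpec N k = ProjSpace.toSpec 1 k := by
    rw [Category.assoc, hι, hg]
  obtain ⟨h, i, hi, hgen⟩ := exists_poly (g ≫ ι) hR
  have hi0 : h i ≠ 0 := by
    intro h0
    rw [h0, map_zero] at hi
    exact hi.ne_zero rfl
  let d : ℕ := Finset.univ.sup fun l => (h l).natDegree
  have hd : ∀ l, (h l).natDegree ≤ d := fun l => Finset.le_sup (f := fun l => (h l).natDegree) (Finset.mem_univ l)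
  let c : Fin (N + 1) × Fin (d + 1) → k := fun p => (h p.1).coeff p.2
  have hc : tup c = h := funext fun l => tup_coeff h hd l
  let φ : RR k N d →ₐ[k] k := MvPolynomial.aeval c
  have hJ : J k d (Set.range ι) ≤ RingHom.ker φ := by
    refine J_le_ker c fun G hG u => ?_
    rw [hc]
    exact ev_eq_zero' ι g hR h i hi hgen G hG u
  have : (RingHom.ker φ).IsPrime := RingHom.ker_isPrime _
  obtain ⟨P, hP, hPφ⟩ := Ideal.exists_minimalPrimes_le hJ
  have hPprime : P.IsPrime := hP.1.1
  let ψ : (RR k N d ⧸ P) →ₐ[k] k := Ideal.Quotient.liftₐ P φ fun a ha => hPφ ha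
  have hψ : ∀ p, ψ (cbar P p) = c p := by
    intro p
    have h1 : ψ (cbar P p) = φ (MvPolynomial.X p) := rfl
    rw [h1]
    exact MvPolynomial.aeval_X _ _
  have hmap : ∀ l, (tup (cbar P) l).map (ψ : (RR k N d ⧸ P) →+* k) = h l := by
    intro l
    rw [map_tup, ← hc]
    congr 1
    funext p
    exact hψ p
  have hF0 : tup (cbar P) i ≠ 0 := by
    intro h0
    apply hi0
    rw [← hmap i, h0, Polynomial.map_zero]
  -- the comparison of the localizations
  let L := Localization.Away (h i)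
  have hLn : Nontrivial L :=
    (IsLocalization.injective (Localization (Submonoid.powers (h i)))
      (powers_le_nonZeroDivisors_of_noZeroDivisors hi0)).nontrivial
  let f₀ : (RR k N d ⧸ P)[X] →ₐ[k] L := (IsScalarTower.toAlgHom k k[X] L).comp (Polynomial.mapAlgHom ψ)
  have hf₀ : ∀ l, f₀ (tup (cbar P) l) = algebraMap k[X] L (h l) := by
    intro l
    have h1 : f₀ (tup (cbar P) l) = algebraMap k[X] L ((tup (cbar P) l).map (ψ : (RR k N d ⧸ P) →+* k)) := rfl
    rw [h1, hmap]
  have hf₁ : ∀ a, f₀ (C a) = algebraMap k L (ψ a) := by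
    intro a
    have h1 : f₀ (C a) = algebraMap k[X] L ((C a : (RR k N d ⧸ P)[X]).map (ψ : (RR k N d ⧸ P) →+* k)) := rfl
    rw [h1, Polynomial.map_C, IsScalarTower.algebraMap_apply k k[X] L]
    rfl
  have hunit : ∀ y : Submonoid.powers (tup (cbar P) i), IsUnit (f₀ y) := by
    rintro ⟨_, n, rfl⟩
    rw [map_pow, hf₀]
    exact (IsLocalization.Away.algebraMap_isUnit (h i)).pow n
  let θ : Localization.Away (tup (cbar P) i) →ₐ[k] L :=
    IsLocalization.liftAlgHom (M := Submonoid.powers (tup (cbar P) i)) (f := f₀) hunit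
  have hθ : ∀ a, θ (algebraMap _ _ a) = f₀ a := fun a => IsLocalization.lift_eq _ a
  have hPhi : Spec.map (CommRingCat.ofHom (θ : Localization.Away (tup (cbar P) i) →+* L)) ≫
      Phi k (tup (cbar P)) i = Phi k h i := by
    refine map_pt' k θ _ _ _ _ (fun l => ?_) i _
    rw [co, hθ, hf₀]
    rfl
  let x' : L := algebraMap k[X] L Polynomial.X
  have hx' : ∀ p : k[X], Polynomial.aeval x' p = algebraMap k[X] L p := by
    intro p
    have h1 : (Polynomial.aeval x' : k[X] →ₐ[k] L) = IsScalarTower.toAlgHom k k[X] L := by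
      apply Polynomial.algHom_ext
      simp [x']
    rw [h1]
    rfl
  have hPhi2 : pt1 k x' ≫ g ≫ ι = Phi k h i := by
    have hu : IsUnit (Polynomial.aeval x' (h i)) := by
      rw [hx']
      exact IsLocalization.Away.algebraMap_isUnit (h i)
    rw [K329.Limit.pt1_comp (g ≫ ι) hR h i hi hgen x' i hu, Phi]
    congr 1
    funext l
    exact hx' (h l)
  -- the open set
  have hopen : IsOpenImmersion (pt1 k x') := by
    have h1 : Spec.map (CommRingCat.ofHom (algebraMap k[X] L)) ≫ aff k = pt1 k x' :=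
      map_pt1 k (IsScalarTower.toAlgHom k k[X] L) (Polynomial.X : k[X])
    rw [← h1]
    have h2 : IsOpenImmersion (Spec.map (CommRingCat.ofHom (algebraMap k[X] L))) := inferInstance
    infer_instance
  have hDo : IsOpen (Set.range (pt1 k x')) := IsOpenImmersion.isOpen_range _
  obtain ⟨w₀⟩ : Nonempty (Spec (CommRingCat.of L)) := inferInstance
  have hDd : Dense (Set.range (pt1 k x')) := hDo.dense ⟨_, w₀, rfl⟩
  have hA : ∀ w : Spec (CommRingCat.of L), ι (g (pt1 k x' w)) =
      Phi k (tup (cbar P)) i (Spec.map (CommRingCat.ofHom (θ : _ →+* L)) w) := by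
    intro w
    have h1 : (pt1 k x' ≫ g ≫ ι) w = (Spec.map (CommRingCat.ofHom (θ : Localization.Away (tup (cbar P) i) →+* L)) ≫
      Phi k (tup (cbar P)) i) w := by rw [hPhi2, hPhi]
    exact h1
  refine ⟨d, P, i, hP, ⟨hF0, ?_⟩, ?_⟩
  · -- two points with different images
    have hJac : JacobsonSpace (ProjSpace 1 k) := LocallyOfFiniteType.jacobsonSpace (ProjSpace.toSpec 1 k)
    obtain ⟨z, ⟨w, rfl⟩, hz⟩ := nonempty_inter_closedPoints (Z := Set.range (pt1 k x')) ⟨_, w₀, rfl⟩
      hDo.isLocallyClosed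
    have hgprop : IsProper g := by
      have : IsProper (g ≫ pX) := by rw [hg]; infer_instance
      exact IsProper.of_comp g pX
    have hzc : IsClosed ({g (pt1 k x' w)} : Set X) := by
      have h1 := g.isClosedMap _ (show IsClosed ({pt1 k x' w} : Set (ProjSpace 1 k)) from hz)
      rwa [Set.image_singleton] at h1
    have : ∃ w' : Spec (CommRingCat.of L), g (pt1 k x' w') ≠ g (pt1 k x' w) := by
      by_contra hcon
      push Not at hcon
      apply hnc
      refine ⟨g (pt1 k x' w), ?_⟩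
      rintro _ ⟨z, rfl⟩
      have h1 : z ∈ closure (Set.range (pt1 k x')) := hDd z
      have h2 : g z ∈ closure (g '' Set.range (pt1 k x')) :=
        image_closure_subset_closure_image g.continuous ⟨z, h1, rfl⟩
      have h3 : g '' Set.range (pt1 k x') ⊆ {g (pt1 k x' w)} := by
        rintro _ ⟨_, ⟨w', rfl⟩, rfl⟩
        exact hcon w'
      exact (closure_minimal h3 hzc) h2
    obtain ⟨w', hw'⟩ := this
    refine ⟨Spec.map (CommRingCat.ofHom (θ : Localization.Away (tup (cbar P) i) →+* L)) w',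
      Spec.map (CommRingCat.ofHom (θ : Localization.Away (tup (cbar P) i) →+* L)) w, ?_, fun h => hw' ?_⟩
    rotate_left
    · rw [← hA, ← hA] at h
      exact ι.isClosedEmbedding.injective h
    · refine prj_eq _ _ (ψ : (RR k N d ⧸ P) →+* k) (fun a => ?_) _ _
      refine (hθ (C a)).trans ?_
      exact hf₁ a
  · rintro _ ⟨z, rfl⟩
    have h1 : z ∈ closure (Set.range (pt1 k x')) := hDd z
    have h2 : g z ∈ closure (g '' Set.range (pt1 k x')) :=
      image_closure_subset_closure_image g.continuous ⟨z, h1, rfl⟩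
    refine closure_mono ?_ h2
    rintro _ ⟨_, ⟨w, rfl⟩, rfl⟩
    exact ⟨_, (hA w).symm⟩

end K130.CurveIdx
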