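import Groth.Agent.MorSch.K130.Chart
import Groth.Agent.MorSch.K130.CurveIdx
import Groth.Agent.Curves.K329.DegPoly

/-!
# The curves of a family of rational curves with parameters in a chart have bounded degree
-/

set_option autoImplicit false
universe u

open CategoryTheory CategoryTheory.Limits AlgebraicGeometry TopologicalSpace Polynomial

namespace K130.DegBound

open CohB1 K329.Pt K329.P1Gen K329.Curve K130.TupFam

variable {k : Type u} [Field k] {X : Scheme.{u}} {pX : X ⟶ Spec (CommRingCat.of k)} {N : ℕ}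

theorem exists_curve_deg [IsProper pX] (ι : X ⟶ ProjSpace N k) (hι : ι ≫ ProjSpace.toSpec N k = pX)
    (F : MorSch.RatFam k pX) {A : Type u} [CommRing A] [Algebra k A] (j : Spec (CommRingCat.of A) ⟶ F.M)
    (hj : j ≫ F.m = mS k A) (f : A[X])
    (c : Spec (CommRingCat.of (Localization.Away f)) ⟶ (F.e.domain : Scheme.{u}))
    (G : Fin (N + 1) → A[X]) (i : Fin (N + 1)) (hi : IsUnit (algebraMap A[X] (Localization.Away f) (G i)))
    (hc1 : c ≫ F.e.domain.ι ≫ pullback.fst _ _ = pt1 k (algebraMap A[X] (Localization.Away f) Polynomial.X))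
    (hc2 : c ≫ F.toM = prj f ≫ j)
    (hc3 : c ≫ F.e.hom ≫ ι = pt k (fun l => algebraMap A[X] (Localization.Away f) (G l)) i hi)
    (w : Spec (CommRingCat.of k) ⟶ Spec (CommRingCat.of (Localization.Away f)))
    (hw : w ≫ Spec.map (CommRingCat.ofHom (algebraMap k (Localization.Away f))) = 𝟙 _) :
    ∃ r : ProjSpace 1 k ⟶ X, r ≫ pX = ProjSpace.toSpec 1 k ∧
      (∀ (T : Scheme.{u}) (s : T ⟶ Spec (CommRingCat.of k)) (v : T ⟶ (F.e.domain : Scheme.{u})),
        v ≫ F.toM = s ≫ w ≫ c ≫ F.toM → (v ≫ F.e.domain.ι ≫ pullback.fst _ _) ≫ r = v ≫ F.e.hom) ∧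
      Curv2.deg k (ProjSpace 1 k) ((Scheme.Modules.pullback (r ≫ ι)).obj (Twist.twistProjSpace N k 1)) 1 ≤
        (Finset.univ.sup fun l => (G l).natDegree : ℕ) := by
  let B := Localization.Away f
  let ω : B →+* k := (Spec.preimage w).hom
  have hω : Spec.map (CommRingCat.ofHom ω) = w := by
    change Spec.map (CommRingCat.ofHom (Spec.preimage w).hom) = w
    rw [CommRingCat.ofHom_hom, Spec.map_preimage]
  have hωk : ω.comp (algebraMap k B) = RingHom.id k := by
    have h1 : Spec.map (CommRingCat.ofHom (ω.comp (algebraMap k B))) = Spec.map (CommRingCat.ofHom (RingHom.id k)) := by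
      have h2 : Spec.map (CommRingCat.ofHom (ω.comp (algebraMap k B))) =
        Spec.map (CommRingCat.ofHom ω) ≫ Spec.map (CommRingCat.ofHom (algebraMap k B)) := by
        rw [← Spec.map_comp]
        rfl
      rw [h2, hω, hw, CommRingCat.ofHom_id, Spec.map_id]
    exact CommRingCat.hom_ext_iff.1 (Spec.map_injective h1)
  have hωk' : ∀ r, ω (algebraMap k B r) = r := fun r => congrFun (congrArg DFunLike.coe hωk) r
  let χ : A →ₐ[k] k :=
    { (ω.comp ((algebraMap A[X] B).comp (C : A →+* A[X]))) with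
      commutes' := fun r => hωk' r }
  have hχ : ∀ a, χ a = ω (algebraMap A[X] B (C a)) := fun a => rfl
  have hμ : w ≫ c ≫ F.toM = Spec.map (CommRingCat.ofHom (χ : A →+* k)) ≫ j := by
    rw [hc2, ← hω, ← Category.assoc, prj, ← Spec.map_comp]
    rfl
  have hjm : (w ≫ c ≫ F.toM) ≫ F.m = 𝟙 _ := by
    rw [hμ, Category.assoc, hj, mS, ← Spec.map_comp, ← Spec.map_id]
    congr 1
    apply CommRingCat.hom_ext
    apply RingHom.ext
    intro r
    exact χ.commutes r
  obtain ⟨r, hr, hrv⟩ := Fibre.exists_curve F (w ≫ c ≫ F.toM) hjm (𝟙 _) (w ≫ c) (by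
    rw [Category.assoc, Category.id_comp])
  refine ⟨r, hr, hrv, ?_⟩
  -- the specialization of `f`
  have hev : ∀ p : A[X], ω (algebraMap A[X] B p) = (p.map (χ : A →+* k)).eval (ω (algebraMap A[X] B Polynomial.X)) := by
    intro p
    have h1 : ω.comp (algebraMap A[X] B) = (Polynomial.evalRingHom (ω (algebraMap A[X] B Polynomial.X))).comp
        (Polynomial.mapRingHom (χ : A →+* k)) := by
      apply Polynomial.ringHom_ext
      · intro a
        simp only [RingHom.comp_apply, Polynomial.coe_mapRingHom, Polynomial.map_C, Polynomial.coe_evalRingHom,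
          Polynomial.eval_C]
        rfl
      · simp only [RingHom.comp_apply, Polynomial.coe_mapRingHom, Polynomial.map_X, Polynomial.coe_evalRingHom,
          Polynomial.eval_X]
    exact congrFun (congrArg DFunLike.coe h1) p
  have hf0 : f.map (χ : A →+* k) ≠ 0 := by
    intro h0
    have h1 := hev f
    rw [h0, Polynomial.eval_zero] at h1
    have h2 : IsUnit (ω (algebraMap A[X] B f)) := (IsLocalization.Away.algebraMap_isUnit f).map ω
    rw [h1] at h2
    exact not_isUnit_zero h2
  let L := RatFunc k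
  let f₀ : A[X] →ₐ[k] L := (IsScalarTower.toAlgHom k k[X] L).comp (Polynomial.mapAlgHom χ)
  have hf₀ : ∀ p, f₀ p = algebraMap k[X] L (p.map (χ : A →+* k)) := fun p => rfl
  have hunit : ∀ y : Submonoid.powers f, IsUnit (f₀ y) := by
    rintro ⟨_, n, rfl⟩
    rw [map_pow, hf₀]
    exact (isUnit_iff_ne_zero.2 ((map_ne_zero_iff _ (RatFunc.algebraMap_injective k)).2 hf0)).pow n
  let θ : B →ₐ[k] L := IsLocalization.liftAlgHom (M := Submonoid.powers f) (f := f₀) hunit
  have hθ : ∀ a, θ (algebraMap _ _ a) = f₀ a := fun a => IsLocalization.lift_eq _ a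
  let v : Spec (CommRingCat.of L) ⟶ (F.e.domain : Scheme.{u}) := Spec.map (CommRingCat.ofHom (θ : B →+* L)) ≫ c
  have hv : v ≫ F.toM = Spec.map (CommRingCat.ofHom (algebraMap k L)) ≫ w ≫ c ≫ F.toM := by
    rw [hμ, Category.assoc, hc2, ← Category.assoc]
    have h1 := CurveIdx.comp_prj f (θ : B →+* L) (χ : A →+* k) (fun a => by
      refine (hθ (C a)).trans ?_
      rw [hf₀, Polynomial.map_C, IsScalarTower.algebraMap_apply k k[X] L]
      rfl)
    rw [h1, Category.assoc]
  have hgen : v ≫ F.e.domain.ι ≫ pullback.fst _ _ = genP k := by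
    rw [Category.assoc, hc1, map_pt1, hθ, hf₀, Polynomial.map_X, RatFunc.algebraMap_X]
    rfl
  have hhi : IsUnit (Polynomial.aeval (RatFunc.X : RatFunc k) ((G i).map (χ : A →+* k))) := by
    rw [aeval_ratFunc, ← hf₀, ← hθ]
    exact hi.map θ
  have hco : genP k ≫ r ≫ ι =
      pt k (fun l => Polynomial.aeval (RatFunc.X : RatFunc k) ((G l).map (χ : A →+* k))) i hhi := by
    have h1 := hrv _ _ v hv
    rw [hgen] at h1
    rw [← Category.assoc, h1, Category.assoc, Category.assoc, hc3]
    refine map_pt' k θ _ _ _ _ (fun l => ?_) i _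
    rw [hθ, hf₀, aeval_ratFunc]
  refine K329.DegPoly.deg_le _ (fun l => (G l).map (χ : A →+* k)) (fun l => ?_) (r ≫ ι) ?_ i hhi hco
  · exact (Polynomial.natDegree_map_le).trans
      (Finset.le_sup (f := fun l => (G l).natDegree) (Finset.mem_univ l))
  · rw [Category.assoc, hι, hr]

end K130.DegBound
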