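import Groth.Agent.MorSch.K130.DegBound
import Mathlib.AlgebraicGeometry.AlgClosed.Basic

/-!
# On a uniruled projective variety the rational curves of bounded degree cover a dense set of closed points
-/

set_option autoImplicit false
universe u

open CategoryTheory CategoryTheory.Limits AlgebraicGeometry TopologicalSpace Polynomial

namespace K130.DenseBd

open CohB1 K329.Pt K329.P1Gen K329.Curve K130.TupFam

variable {k : Type u} [Field k] [IsAlgClosed k] {X : Scheme.{u}} {pX : X ⟶ Spec (CommRingCat.of k)} {N : ℕ}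

/-- Through a closed point of every nonempty open there is a rational curve of degree at most `d`, for some `d`. -/
theorem exists_bound [IsProper pX] (ι : X ⟶ ProjSpace N k) (hι : ι ≫ ProjSpace.toSpec N k = pX)
    (h : MorSch.IsUniruled k pX) :
    ∃ d : ℕ, ∀ U : X.Opens, (U : Set X).Nonempty → ∃ x ∈ U, IsClosed ({x} : Set X) ∧
      ∃ g : ProjSpace 1 k ⟶ X, g ≫ pX = ProjSpace.toSpec 1 k ∧ (¬ ∃ y : X, Set.range g.base ⊆ {y}) ∧
        x ∈ Set.range g.base ∧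
        Curv2.deg k (ProjSpace 1 k) ((Scheme.Modules.pullback (g ≫ ι)).obj (Twist.twistProjSpace N k 1)) 1 ≤ d := by
  obtain ⟨F, hdom, t, t', htt, hne⟩ := h
  obtain ⟨A, iA, iD, iAlg, j, hj, f, hf, c, G, i, hi, hco, hc1, hc2, hc3⟩ := Chart.exists_chart ι hι F
  refine ⟨Finset.univ.sup fun l => (G l).natDegree, fun U hU => ?_⟩
  obtain ⟨hM, hMs, hMf, hMq⟩ := F.isVar
  have hI : IsIntegral (MorSch.P1Prod k F.m) := Groth.Agent.S1582.result k _ _ (ProjSpace.toSpec 1 k) F.m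
  let D := F.e.domain
  have hDne : Nonempty D := ⟨t⟩
  have hDI : IsIntegral (D : Scheme.{u}) := inferInstance
  let Q := pullback F.toM F.toM
  let q₁ : Q ⟶ (D : Scheme.{u}) := pullback.fst _ _
  let q₂ : Q ⟶ (D : Scheme.{u}) := pullback.snd _ _
  have hqq : q₁ ≫ F.toM = q₂ ≫ F.toM := pullback.condition
  have huo : UniversallyOpen (ProjSpace.toSpec 1 k) := inferInstance
  have huo2 : UniversallyOpen F.toM := inferInstance
  have huo3 : UniversallyOpen q₁ := inferInstanceAs (UniversallyOpen (pullback.fst F.toM F.toM))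
  -- the open set where the two values differ
  let Δ := pullback.diagonal pX
  let O : Q.Opens := ⟨F.ev₂ ⁻¹' (Set.range Δ)ᶜ, (Δ.isClosedEmbedding.isClosed_range.isOpen_compl).preimage F.ev₂.continuous⟩
  obtain ⟨z₀, hz₀1, hz₀2⟩ : ∃ z : Q, q₁ z = t ∧ q₂ z = t' :=
    Scheme.Pullback.exists_preimage_pullback t t' htt
  have hz₀ : z₀ ∈ O := by
    rintro ⟨x, hx⟩
    apply hne
    have h1 : F.e.hom (q₁ z₀) = x := by
      have h2 := congrArg (fun p : Q ⟶ X => p z₀) F.ev₂_fst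
      have h3 := congrArg (fun p : X ⟶ X => p x) (pullback.diagonal_fst pX)
      refine h2.symm.trans ?_
      change (pullback.fst pX pX) (F.ev₂ z₀) = x
      rw [← hx]
      exact h3
    have h1' : F.e.hom (q₂ z₀) = x := by
      have h2 := congrArg (fun p : Q ⟶ X => p z₀) F.ev₂_snd
      have h3 := congrArg (fun p : X ⟶ X => p x) (pullback.diagonal_snd pX)
      refine h2.symm.trans ?_
      change (pullback.snd pX pX) (F.ev₂ z₀) = x
      rw [← hx]
      exact h3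
    rw [hz₀1] at h1
    rw [hz₀2] at h1'
    exact h1.trans h1'.symm
  -- a good closed point
  have hS1 : IsOpen (q₁ '' (O : Set Q)) := q₁.isOpenMap _ O.2
  have hirr : IrreducibleSpace (D : Scheme.{u}) := inferInstance
  have hV : (Set.range c).Nonempty := by
    have : Nontrivial (Localization (Submonoid.powers f)) :=
      (IsLocalization.injective (Localization (Submonoid.powers f))
        (powers_le_nonZeroDivisors_of_noZeroDivisors hf)).nontrivial
    have hne : Nontrivial (Localization.Away f) := this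
    obtain ⟨z⟩ : Nonempty (Spec (CommRingCat.of (Localization.Away f))) := inferInstance
    exact ⟨c z, z, rfl⟩
  have hV' : IsOpen (Set.range c) := IsOpenImmersion.isOpen_range c
  have hU1 : (F.e.hom ⁻¹' (U : Set X)).Nonempty := by
    obtain ⟨x, hxU⟩ := hU
    obtain ⟨y, hy⟩ := hdom.denseRange.exists_mem_open U.2 ⟨x, hxU⟩
    exact ⟨y, hy⟩
  have hU2 : IsOpen (F.e.hom ⁻¹' (U : Set X)) := U.2.preimage F.e.hom.continuous
  obtain ⟨s, hs1, hs2⟩ := nonempty_preirreducible_inter hU2 hV' hU1 hV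
  obtain ⟨s', ⟨hs'1, hs'2⟩, z, hz, hzs'⟩ := nonempty_preirreducible_inter (hU2.inter hV') hS1 ⟨s, hs1, hs2⟩
    ⟨q₁ z₀, z₀, hz₀, rfl⟩
  have hlft : LocallyOfFiniteType (q₁ ≫ F.toM ≫ F.m) := inferInstance
  have hJ : JacobsonSpace Q := LocallyOfFiniteType.jacobsonSpace (q₁ ≫ F.toM ≫ F.m)
  obtain ⟨z', ⟨hz'1, hz'2⟩, hz'c⟩ := nonempty_inter_closedPoints
    (Z := (O : Set Q) ∩ q₁ ⁻¹' (F.e.hom ⁻¹' (U : Set X) ∩ Set.range c))
    ⟨z, hz, by rw [Set.mem_preimage, hzs']; exact ⟨hs'1, hs'2⟩⟩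
    (O.2.inter ((hU2.inter hV').preimage q₁.continuous)).isLocallyClosed
  let ζ : Spec (CommRingCat.of k) ⟶ Q := pointOfClosedPoint (q₁ ≫ F.toM ≫ F.m) z' hz'c
  have hζ : ζ ≫ q₁ ≫ F.toM ≫ F.m = 𝟙 _ := pointOfClosedPoint_comp _ z' hz'c
  have hζz : ∀ b, ζ b = z' := fun b => by
    rw [Subsingleton.elim b (IsLocalRing.closedPoint k)]
    exact pointOfClosedPoint_apply _ z' hz'c _
  -- the two points of the curve
  have hwr : Set.range (ζ ≫ q₁) ⊆ Set.range c := by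
    rintro _ ⟨b, rfl⟩
    rw [Scheme.Hom.comp_apply, hζz]
    exact hz'2.2
  let w : Spec (CommRingCat.of k) ⟶ Spec (CommRingCat.of (Localization.Away f)) := IsOpenImmersion.lift c (ζ ≫ q₁) hwr
  have hwc : w ≫ c = ζ ≫ q₁ := IsOpenImmersion.lift_fac _ _ _
  have hcm : c ≫ F.toM ≫ F.m = Spec.map (CommRingCat.ofHom (algebraMap k (Localization.Away f))) := by
    rw [← Category.assoc, hc2, Category.assoc, hj, prj, mS, ← Spec.map_comp]
    rfl
  have hw : w ≫ Spec.map (CommRingCat.ofHom (algebraMap k (Localization.Away f))) = 𝟙 _ := by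
    rw [← hcm, ← Category.assoc, hwc, Category.assoc, hζ]
  obtain ⟨r, hr, hrv, hdeg⟩ := DegBound.exists_curve_deg ι hι F j hj f c G i hi hc1 hc2 hc3 w hw
  have hr1 : ((ζ ≫ q₁) ≫ F.e.domain.ι ≫ pullback.fst _ _) ≫ r = (ζ ≫ q₁) ≫ F.e.hom :=
    hrv _ (𝟙 _) _ (by rw [Category.id_comp, ← Category.assoc w, hwc])
  have hr2 : ((ζ ≫ q₂) ≫ F.e.domain.ι ≫ pullback.fst _ _) ≫ r = (ζ ≫ q₂) ≫ F.e.hom :=
    hrv _ (𝟙 _) _ (by
      rw [Category.id_comp, ← Category.assoc w, hwc, Category.assoc, Category.assoc, hqq])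
  let b₀ : Spec (CommRingCat.of k) := IsLocalRing.closedPoint k
  have hx1 : F.e.hom (q₁ z') ∈ Set.range r.base := by
    refine ⟨((ζ ≫ q₁) ≫ F.e.domain.ι ≫ pullback.fst _ _) b₀, ?_⟩
    have h1 := congrArg (fun p : Spec (CommRingCat.of k) ⟶ X => p b₀) hr1
    refine Eq.trans h1 ?_
    change F.e.hom (q₁ (ζ b₀)) = _
    rw [hζz]
  have hx2 : F.e.hom (q₂ z') ∈ Set.range r.base := by
    refine ⟨((ζ ≫ q₂) ≫ F.e.domain.ι ≫ pullback.fst _ _) b₀, ?_⟩
    have h1 := congrArg (fun p : Spec (CommRingCat.of k) ⟶ X => p b₀) hr2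
    refine Eq.trans h1 ?_
    change F.e.hom (q₂ (ζ b₀)) = _
    rw [hζz]
  have hk1 : (ζ ≫ q₁ ≫ F.e.hom) ≫ pX = 𝟙 _ := by
    rw [Category.assoc, Category.assoc, ← F.toM_m, hζ]
  have hk2 : (ζ ≫ q₂ ≫ F.e.hom) ≫ pX = 𝟙 _ := by
    rw [Category.assoc, Category.assoc, ← F.toM_m, ← Category.assoc q₂, ← hqq, Category.assoc, hζ]
  refine ⟨F.e.hom (q₁ z'), hz'2.1, ?_, r, hr, ?_, hx1, hdeg⟩
  · have : IsClosedImmersion ((ζ ≫ q₁ ≫ F.e.hom) ≫ pX) := by
      rw [hk1]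
      infer_instance
    have h1 : IsClosedImmersion (ζ ≫ q₁ ≫ F.e.hom) := IsClosedImmersion.of_comp _ pX
    have h2 := (ζ ≫ q₁ ≫ F.e.hom).isClosedEmbedding.isClosed_range
    have h3 : Set.range (ζ ≫ q₁ ≫ F.e.hom) = {F.e.hom (q₁ z')} := by
      ext y
      constructor
      · rintro ⟨b, rfl⟩
        change F.e.hom (q₁ (ζ b)) = _
        rw [hζz]
      · rintro rfl
        refine ⟨b₀, ?_⟩
        change F.e.hom (q₁ (ζ b₀)) = _
        rw [hζz]
    rw [← h3]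
    exact h2
  · rintro ⟨y, hy⟩
    have h1 : F.e.hom (q₁ z') = F.e.hom (q₂ z') := (hy hx1).trans (hy hx2).symm
    apply hz'1
    have h2 : ζ ≫ q₁ ≫ F.e.hom = ζ ≫ q₂ ≫ F.e.hom := by
      refine ext_of_apply_closedPoint_eq pX hk1 hk2 ?_
      change F.e.hom (q₁ (ζ b₀)) = F.e.hom (q₂ (ζ b₀))
      rw [hζz, h1]
    have h3 : ζ ≫ F.ev₂ = (ζ ≫ q₁ ≫ F.e.hom) ≫ Δ := by
      apply pullback.hom_ext
      · rw [Category.assoc, F.ev₂_fst, Category.assoc, pullback.diagonal_fst, Category.comp_id]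
      · rw [Category.assoc, F.ev₂_snd, Category.assoc, pullback.diagonal_snd, Category.comp_id, h2]
    refine ⟨(ζ ≫ q₁ ≫ F.e.hom) b₀, ?_⟩
    have h4 := congrArg (fun p : Spec (CommRingCat.of k) ⟶ pullback pX pX => p b₀) h3
    refine Eq.trans h4.symm ?_
    change F.ev₂ (ζ b₀) = _
    rw [hζz]

/-- If the loci of the rational curves of bounded degree are closed, there is a rational curve through every closed
point of a uniruled projective variety. -/
theorem exists_curve_through [IsProper pX] (ι : X ⟶ ProjSpace N k) (hι : ι ≫ ProjSpace.toSpec N k = pX)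
    (h : MorSch.IsUniruled k pX)
    (hcl : ∀ d : ℕ, ∃ Z : Set X, IsClosed Z ∧ ∀ x : X, IsClosed ({x} : Set X) →
      (x ∈ Z ↔ ∃ g : ProjSpace 1 k ⟶ X, g ≫ pX = ProjSpace.toSpec 1 k ∧
        (¬ ∃ y : X, Set.range g.base ⊆ {y}) ∧ x ∈ Set.range g.base ∧
        Curv2.deg k (ProjSpace 1 k) ((Scheme.Modules.pullback (g ≫ ι)).obj (Twist.twistProjSpace N k 1)) 1 ≤ d))
    (x : X) (hx : IsClosed ({x} : Set X)) :
    ∃ g : ProjSpace 1 k ⟶ X, g ≫ pX = ProjSpace.toSpec 1 k ∧ (¬ ∃ y : X, Set.range g.base ⊆ {y}) ∧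
      x ∈ Set.range g.base := by
  obtain ⟨d, hd⟩ := exists_bound ι hι h
  obtain ⟨Z, hZc, hZ⟩ := hcl d
  have hxZ : x ∈ Z := by
    by_contra hcon
    obtain ⟨y, hyU, hyc, hg⟩ := hd ⟨Zᶜ, hZc.isOpen_compl⟩ ⟨x, hcon⟩
    exact hyU ((hZ y hyc).2 hg)
  obtain ⟨g, h1, h2, h3, -⟩ := (hZ x hx).1 hxZ
  exact ⟨g, h1, h2, h3⟩

end K130.DenseBd
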