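import Groth.Agent.MorSch.K130.TupFam
import Groth.Agent.Curves.K329.Curve

/-!
# The curves of a family of rational curves on a proper scheme extend to the projective line
-/

set_option autoImplicit false
universe u

open CategoryTheory CategoryTheory.Limits AlgebraicGeometry TopologicalSpace Polynomial

namespace K130.Fibre

open CohB1 K329.Pt K329.P1Gen K329.Curve

variable {k : Type u} [Field k] {X : Scheme.{u}} {pX : X ⟶ Spec (CommRingCat.of k)}

/-- the line `P¹ × {μ}` -/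
noncomputable def line (F : MorSch.RatFam k pX) (μ : Spec (CommRingCat.of k) ⟶ F.M) (hμ : μ ≫ F.m = 𝟙 _) :
    ProjSpace 1 k ⟶ MorSch.P1Prod k F.m :=
  pullback.lift (𝟙 _) (ProjSpace.toSpec 1 k ≫ μ) (by rw [Category.assoc, hμ, Category.id_comp, Category.comp_id])

variable (F : MorSch.RatFam k pX)

lemma comp_toSpec {T : Scheme.{u}} (μ : Spec (CommRingCat.of k) ⟶ F.M) (hμ : μ ≫ F.m = 𝟙 _)
    (s : T ⟶ Spec (CommRingCat.of k)) (v : T ⟶ (F.e.domain : Scheme.{u})) (hv : v ≫ F.toM = s ≫ μ) :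
    (v ≫ F.e.domain.ι ≫ pullback.fst _ _) ≫ ProjSpace.toSpec 1 k = s := by
  rw [Category.assoc, Category.assoc, pullback.condition]
  have h1 : v ≫ F.toM ≫ F.m = s := by rw [← Category.assoc, hv, Category.assoc, hμ, Category.comp_id]
  rw [← h1]
  simp [MorSch.RatFam.toM]

lemma comp_line {T : Scheme.{u}} (μ : Spec (CommRingCat.of k) ⟶ F.M) (hμ : μ ≫ F.m = 𝟙 _)
    (s : T ⟶ Spec (CommRingCat.of k)) (v : T ⟶ (F.e.domain : Scheme.{u})) (hv : v ≫ F.toM = s ≫ μ) :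
    (v ≫ F.e.domain.ι ≫ pullback.fst _ _) ≫ line F μ hμ = v ≫ F.e.domain.ι := by
  apply pullback.hom_ext
  · rw [Category.assoc, line, pullback.lift_fst, Category.comp_id, Category.assoc]
  · rw [Category.assoc, line, pullback.lift_snd, ← Category.assoc, comp_toSpec F μ hμ s v hv, ← hv]
    simp [MorSch.RatFam.toM]

/-- The rational curve of the parameter `μ`. -/
theorem exists_curve [IsProper pX] (μ : Spec (CommRingCat.of k) ⟶ F.M) (hμ : μ ≫ F.m = 𝟙 _)
    {T₀ : Scheme.{u}} [Nonempty T₀] (s₀ : T₀ ⟶ Spec (CommRingCat.of k)) (v₀ : T₀ ⟶ (F.e.domain : Scheme.{u}))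
    (hv₀ : v₀ ≫ F.toM = s₀ ≫ μ) :
    ∃ r : ProjSpace 1 k ⟶ X, r ≫ pX = ProjSpace.toSpec 1 k ∧
      ∀ (T : Scheme.{u}) (s : T ⟶ Spec (CommRingCat.of k)) (v : T ⟶ (F.e.domain : Scheme.{u})),
        v ≫ F.toM = s ≫ μ → (v ≫ F.e.domain.ι ≫ pullback.fst _ _) ≫ r = v ≫ F.e.hom := by
  let D := F.e.domain
  let ℓ := line F μ hμ
  let W : (ProjSpace 1 k).Opens := ℓ ⁻¹ᵁ D
  -- the restriction of the line
  let ℓ' : (W : Scheme.{u}) ⟶ (D : Scheme.{u}) := ℓ ∣_ D
  have hℓ' : ℓ' ≫ D.ι = W.ι ≫ ℓ := morphismRestrict_ι ℓ D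
  -- factorization
  have hfac : ∀ (T : Scheme.{u}) (s : T ⟶ Spec (CommRingCat.of k)) (v : T ⟶ (F.e.domain : Scheme.{u})),
        v ≫ F.toM = s ≫ μ → ∃ v' : T ⟶ (W : Scheme.{u}), v' ≫ W.ι = v ≫ F.e.domain.ι ≫ pullback.fst _ _ ∧
          v' ≫ ℓ' = v := by
    intro T s v hv
    have h1 := comp_line F μ hμ s v hv
    have h2 : Set.range (v ≫ F.e.domain.ι ≫ pullback.fst _ _) ⊆ Set.range W.ι := by
      rintro _ ⟨x, rfl⟩
      rw [Scheme.Opens.range_ι]
      change ℓ ((v ≫ F.e.domain.ι ≫ pullback.fst _ _) x) ∈ D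
      have h3 : ℓ ((v ≫ F.e.domain.ι ≫ pullback.fst _ _) x) = (v ≫ F.e.domain.ι) x :=
        congrArg (fun q : T ⟶ MorSch.P1Prod k F.m => q x) h1
      rw [h3]
      exact (v x).2
    refine ⟨IsOpenImmersion.lift W.ι _ h2, IsOpenImmersion.lift_fac _ _ _, ?_⟩
    rw [← cancel_mono D.ι, Category.assoc, hℓ', ← Category.assoc, IsOpenImmersion.lift_fac]
    exact h1
  obtain ⟨v₀', -, -⟩ := hfac T₀ s₀ v₀ hv₀
  obtain ⟨t₀⟩ : Nonempty T₀ := inferInstance
  have hWne : (W : Set (ProjSpace 1 k)).Nonempty := ⟨_, (v₀' t₀).2⟩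
  have hgen : Set.range (genP k) ⊆ Set.range W.ι := by
    rintro _ ⟨x, rfl⟩
    rw [Scheme.Opens.range_ι]
    have hx : x = IsLocalRing.closedPoint (RatFunc k) := Subsingleton.elim (α := PrimeSpectrum (RatFunc k)) _ _
    rw [hx, genP_closedPoint]
    exact ((genericPoint_spec (ProjSpace 1 k)).mem_open_set_iff W.2).2 (by simpa using hWne)
  let g' : Spec (CommRingCat.of (RatFunc k)) ⟶ (W : Scheme.{u}) := IsOpenImmersion.lift W.ι (genP k) hgen
  have hg' : g' ≫ W.ι = genP k := IsOpenImmersion.lift_fac _ _ _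
  have hWc : (ℓ' ≫ F.e.hom) ≫ pX = W.ι ≫ ProjSpace.toSpec 1 k := by
    have h1 : ℓ ≫ pullback.fst (ProjSpace.toSpec 1 k) F.m = 𝟙 _ := pullback.lift_fst _ _ _
    rw [Category.assoc, F.comm, ← Category.assoc, hℓ', Category.assoc, ← Category.assoc ℓ, h1, Category.id_comp]
  obtain ⟨r, hr, hgr⟩ := exists_extension k pX (g' ≫ ℓ' ≫ F.e.hom) (by
    rw [Category.assoc, hWc, ← Category.assoc, hg', genP_toSpec])
  have hdom : IsDominant g' := by
    constructor
    rw [DenseRange, dense_iff_closure_eq, Set.eq_univ_iff_forall]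
    intro x
    have h1 : genericPoint (ProjSpace 1 k) ⤳ W.ι x := genericPoint_specializes _
    have h2 : W.ι (g' (IsLocalRing.closedPoint (RatFunc k))) = genericPoint (ProjSpace 1 k) := by
      rw [← genP_closedPoint]
      exact congrArg (fun q : Spec (CommRingCat.of (RatFunc k)) ⟶ ProjSpace 1 k =>
        q (IsLocalRing.closedPoint (RatFunc k))) hg'
    rw [← h2] at h1
    have h3 := (W.ι.isOpenEmbedding.toIsInducing.specializes_iff).1 h1
    have h4 : ({g' (IsLocalRing.closedPoint (RatFunc k))} : Set (W : Scheme.{u})) ⊆ Set.range g' := by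
      rintro _ rfl
      exact ⟨_, rfl⟩
    exact closure_mono h4 h3.mem_closure
  have hWr : W.ι ≫ r = ℓ' ≫ F.e.hom := by
    refine ext_of_isDominant_of_isSeparated pX ?_ g' ?_
    · rw [Category.assoc, hr, hWc]
    · rw [← Category.assoc, hg', hgr]
  refine ⟨r, hr, fun T s v hv => ?_⟩
  obtain ⟨v', h1, h2⟩ := hfac T s v hv
  rw [← h1, Category.assoc, hWr, ← Category.assoc, h2]

end K130.Fibre
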