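import Groth.Agent.MorSch.K130.TupFam
import Groth.Agent.Curves.K329.Curve

/-!
# The parameter spaces of polynomial tuples with image in a closed subset of projective space
-/

set_option autoImplicit false
universe u

open CategoryTheory CategoryTheory.Limits AlgebraicGeometry TopologicalSpace Polynomial

namespace K130.Param

open CohB1 K329.Pt K329.P1Gen K329.Curve K130.ConeForms K130.TupFam

section Tup

variable {N d : ℕ} {A : Type u} [CommRing A]

/-- the tuple of polynomials of degree at most `d` with coefficients `c` -/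
noncomputable def tup (c : Fin (N + 1) × Fin (d + 1) → A) (l : Fin (N + 1)) : A[X] :=
  ∑ j : Fin (d + 1), Polynomial.C (c (l, j)) * X ^ (j : ℕ)

lemma map_tup {A' : Type u} [CommRing A'] (φ : A →+* A') (c : Fin (N + 1) × Fin (d + 1) → A) (l : Fin (N + 1)) :
    (tup c l).map φ = tup (fun p => φ (c p)) l := by
  simp [tup, Polynomial.map_sum]

lemma eval_tup (c : Fin (N + 1) × Fin (d + 1) → A) (l : Fin (N + 1)) (a : A) :
    (tup c l).eval a = ∑ j : Fin (d + 1), c (l, j) * a ^ (j : ℕ) := by
  simp [tup, Polynomial.eval_finsetSum]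

lemma tup_coeff (h : Fin (N + 1) → A[X]) (hd : ∀ l, (h l).natDegree ≤ d) (l : Fin (N + 1)) :
    tup (fun p : Fin (N + 1) × Fin (d + 1) => (h p.1).coeff p.2) l = h l := by
  rw [tup, Fin.sum_univ_eq_sum_range (fun j => Polynomial.C ((h l).coeff j) * X ^ j) (d + 1)]
  exact ((h l).as_sum_range_C_mul_X_pow' (Nat.lt_succ_of_le (hd l))).symm

end Tup

variable (k : Type u) [Field k] {N : ℕ}

/-- the ring of universal coefficients -/
abbrev RR (N d : ℕ) : Type u := MvPolynomial (Fin (N + 1) × Fin (d + 1)) k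

/-- The incidence ideal: the universal tuple has image in `T`. -/
noncomputable def J (d : ℕ) (T : Set (ProjSpace N k)) : Ideal (RR k N d) :=
  Ideal.span {f | ∃ G ∈ Forms k T, ∃ u : k,
    f = ev k (fun l => (tup (MvPolynomial.X : Fin (N + 1) × Fin (d + 1) → RR k N d) l).eval (algebraMap k _ u)) G}

variable {k}

lemma map_eval {d : ℕ} {A A' : Type u} [CommRing A] [CommRing A'] [Algebra k A] [Algebra k A'] (φ : A →ₐ[k] A')
    (c : Fin (N + 1) × Fin (d + 1) → A) (l : Fin (N + 1)) (u : k) :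
    φ ((tup c l).eval (algebraMap k A u)) = (tup (fun p => φ (c p)) l).eval (algebraMap k A' u) := by
  rw [eval_tup, eval_tup, map_sum]
  refine Finset.sum_congr rfl fun j _ => ?_
  rw [map_mul, map_pow, AlgHom.commutes]

lemma map_gen {d : ℕ} {A A' : Type u} [CommRing A] [CommRing A'] [Algebra k A] [Algebra k A'] (φ : A →ₐ[k] A')
    (c : Fin (N + 1) × Fin (d + 1) → A) (u : k) (G : MvPolynomial (Fin (N + 1)) k) :
    φ (ev k (fun l => (tup c l).eval (algebraMap k A u)) G) =
      ev k (fun l => (tup (fun p => φ (c p)) l).eval (algebraMap k A' u)) G := by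
  have h1 := congrFun (congrArg DFunLike.coe (ev_comp k φ (fun l => (tup c l).eval (algebraMap k A u)))) G
  refine h1.trans ?_
  congr 2
  funext l
  exact map_eval φ c l u

/-- The ideal is killed by a homomorphism exactly if the tuple has image in `T`. -/
lemma J_le_ker {d : ℕ} {T : Set (ProjSpace N k)} {A : Type u} [CommRing A] [Algebra k A]
    (c : Fin (N + 1) × Fin (d + 1) → A)
    (h : ∀ G ∈ Forms k T, ∀ u : k, ev k (fun l => (tup c l).eval (algebraMap k A u)) G = 0) :
    J k d T ≤ RingHom.ker (MvPolynomial.aeval c : RR k N d →ₐ[k] A) := by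
  rw [J, Ideal.span_le]
  rintro _ ⟨G, hG, u, rfl⟩
  rw [SetLike.mem_coe, RingHom.mem_ker]
  have h1 := map_gen (MvPolynomial.aeval c : RR k N d →ₐ[k] A) MvPolynomial.X u G
  simp only [MvPolynomial.aeval_X] at h1
  rw [h1]
  exact h G hG u

/-- the coefficients in the quotient -/
noncomputable def cbar {d : ℕ} (P : Ideal (RR k N d)) (p : Fin (N + 1) × Fin (d + 1)) : RR k N d ⧸ P :=
  Ideal.Quotient.mkₐ k P (MvPolynomial.X p)

lemma ev_cbar {d : ℕ} {T : Set (ProjSpace N k)} (P : Ideal (RR k N d)) (hP : J k d T ≤ P)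
    (G : MvPolynomial (Fin (N + 1)) k) (hG : G ∈ Forms k T) (u : k) :
    ev k (fun l => (tup (cbar P) l).eval (algebraMap k (RR k N d ⧸ P) u)) G = 0 := by
  have h1 := map_gen (Ideal.Quotient.mkₐ k P) (MvPolynomial.X : Fin (N + 1) × Fin (d + 1) → RR k N d) u G
  have h2 : (fun p => Ideal.Quotient.mkₐ k P (MvPolynomial.X p)) = (cbar P : Fin (N + 1) × Fin (d + 1) → _) := rfl
  rw [h2] at h1
  rw [← h1]
  exact Ideal.Quotient.eq_zero_iff_mem.2 (hP (Ideal.subset_span ⟨G, hG, u, rfl⟩))

/-- nontrivial families: some curve of the family is not contracted -/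
def Q {d : ℕ} (P : Ideal (RR k N d)) (i : Fin (N + 1)) : Prop :=
  tup (cbar P) i ≠ 0 ∧ ∃ b b' : Spec (CommRingCat.of (Localization.Away (tup (cbar P) i))),
    prj (tup (cbar P) i) b = prj (tup (cbar P) i) b' ∧
    Phi k (tup (cbar P)) i b ≠ Phi k (tup (cbar P)) i b'

variable {X : Scheme.{u}} (pX : X ⟶ Spec (CommRingCat.of k)) (ι : X ⟶ ProjSpace N k)

/-- A dominant nontrivial family shows that `X` is uniruled. -/
theorem isUniruled_of_dense [IsAlgClosed k] [IsClosedImmersion ι] (hι : ι ≫ ProjSpace.toSpec N k = pX) {d : ℕ}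
    (P : Ideal (RR k N d)) [P.IsPrime] (hP : J k d (Set.range ι) ≤ P) (i : Fin (N + 1)) (hQ : Q P i)
    (hd : Dense (ι ⁻¹' Set.range (Phi k (tup (cbar P)) i))) : MorSch.IsUniruled k pX := by
  have hinf : Infinite k := IsAlgClosed.instInfinite
  obtain ⟨hne, b, b', hbb, hPhi⟩ := hQ
  have hr : Set.range (Phi k (tup (cbar P)) i) ⊆ Set.range ι :=
    range_subset k ι.isClosedEmbedding.isClosed_range _ _ fun G hG u => ev_cbar P hP G hG u
  obtain ⟨e, he⟩ := Groth.Agent.S4367.result (Phi k (tup (cbar P)) i) ι hr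
  have he' : e ≫ pX = Spec.map (CommRingCat.ofHom (algebraMap k (Localization.Away (tup (cbar P) i)))) := by
    rw [← hι, ← Category.assoc, he, Phi_toSpec]
  obtain ⟨F, hF, hF2⟩ := exists_ratFam k pX (tup (cbar P) i) hne e he'
  obtain ⟨t, t', htt, ht, ht'⟩ := hF2 b b' hbb
  have hιe : ∀ z, ι (e z) = Phi k (tup (cbar P)) i z := fun z => by
    rw [← he]; rfl
  refine ⟨F, ⟨?_⟩, t, t', htt, ?_⟩
  · have h1 : Set.range e = ι ⁻¹' Set.range (Phi k (tup (cbar P)) i) := by
      ext z
      constructor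
      · rintro ⟨w, rfl⟩
        exact ⟨w, (hιe w).symm⟩
      · rintro ⟨w, hw⟩
        refine ⟨w, ι.isClosedEmbedding.injective ?_⟩
        rw [← hw]
        exact hιe w
    have h2 : Dense (Set.range e) := h1 ▸ hd
    have h3 : Set.range F.e.hom = Set.range e := hF
    rw [DenseRange, h3]
    exact h2
  · intro h
    apply hPhi
    rw [← hιe, ← hιe]
    have h4 : e b = e b' := by
      have h5 : F.e.hom.base t = e b := ht
      have h6 : F.e.hom.base t' = e b' := ht'
      rw [← h5, ← h6]
      exact h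
    rw [h4]

end K130.Param
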