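import Groth.Agent.MorSch.K130.ConeForms
import Groth.Agent.Brauer.K161.SBGeom
import Groth.Agent.Sga4h.H599.Geo
import Groth.Agent.S1582
import Groth.Prelude.Def_MorSch

/-!
# Families of rational curves given by polynomial tuples

`A` a domain of finite type over `k`, `F : Fin (N + 1) → A[X]`, `F i ≠ 0`.
* `Phi k F i : Spec A[X]_{F i} ⟶ P^N_k`; `range_subset`: criterion for the image to lie in a closed subset.
* `exists_ratFam`: a `k`-morphism `Spec A[X]_f ⟶ X` as a family of rational curves on `X` with parameter scheme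
  `Spec A`.
-/

set_option autoImplicit false
universe u

open CategoryTheory CategoryTheory.Limits AlgebraicGeometry TopologicalSpace Polynomial

namespace K130.TupFam

open CohB1 K329.Pt K329.P1Gen K130.ConeForms

variable (k : Type u) [Field k] {N : ℕ} {A : Type u} [CommRing A] [Algebra k A]

/-- the coordinates over the localization -/
noncomputable def co (F : Fin (N + 1) → A[X]) (i : Fin (N + 1)) : Fin (N + 1) → Localization.Away (F i) :=
  fun l => algebraMap A[X] (Localization.Away (F i)) (F l)

lemma isUnit_co (F : Fin (N + 1) → A[X]) (i : Fin (N + 1)) : IsUnit (co F i i) :=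
  IsLocalization.Away.algebraMap_isUnit (F i)

/-- the morphism with homogeneous coordinates `F` -/
noncomputable def Phi (F : Fin (N + 1) → A[X]) (i : Fin (N + 1)) :
    Spec (CommRingCat.of (Localization.Away (F i))) ⟶ ProjSpace N k :=
  pt k (co F i) i (isUnit_co F i)

lemma Phi_toSpec (F : Fin (N + 1) → A[X]) (i : Fin (N + 1)) :
    Phi k F i ≫ ProjSpace.toSpec N k =
      Spec.map (CommRingCat.ofHom (algebraMap k (Localization.Away (F i)))) :=
  pt_toSpec _ _ _ _

/-- evaluation at an element of `A` is `k`-linear -/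
noncomputable def evalAt (a : A) : A[X] →ₐ[k] A := (Polynomial.aeval (R := A) a).restrictScalars k

lemma evalAt_apply (a : A) (p : A[X]) : evalAt k a p = p.eval a := by
  simp [evalAt, Polynomial.aeval_def, Polynomial.eval₂_eq_eval_map]

theorem range_subset [Infinite k] [IsDomain A] {T : Set (ProjSpace N k)} (hT : IsClosed T)
    (F : Fin (N + 1) → A[X]) (i : Fin (N + 1))
    (h : ∀ G ∈ Forms k T, ∀ u : k, ev k (fun l => (F l).eval (algebraMap k A u)) G = 0) :
    Set.range (Phi k F i) ⊆ T := by
  rintro _ ⟨x, rfl⟩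
  by_contra hx
  obtain ⟨G, hG, hGx⟩ := exists_form hT _ hx
  obtain ⟨n, hn, hGn, -⟩ := id hG
  rw [Phi, mem_basicOpen_iff k _ _ _ hn hGn] at hGx
  apply hGx
  have h1 : ev k (co F i) G = algebraMap A[X] (Localization.Away (F i)) (ev k F G) := by
    have := ev_comp k (IsScalarTower.toAlgHom k A[X] (Localization.Away (F i))) F
    exact (congrFun (congrArg DFunLike.coe this) G).symm
  have h2 : ev k F G = 0 := by
    apply Polynomial.eq_zero_of_infinite_isRoot
    have h3 : Set.range (algebraMap k A) ⊆ {x | (ev k F G).IsRoot x} := by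
      rintro _ ⟨u, rfl⟩
      have h4 := ev_comp k (evalAt k (algebraMap k A u)) F
      have h5 := congrFun (congrArg DFunLike.coe h4) G
      simp only [evalAt_apply] at h5
      rw [h G hG u] at h5
      change (ev k F G).eval _ = 0
      rw [← h5]
      exact (evalAt_apply k _ _).symm
    exact (Set.infinite_range_of_injective (algebraMap k A).injective).mono h3
  rw [h1, h2, map_zero]
  exact Ideal.zero_mem _

variable (A)

/-- the structure morphism of the parameter scheme -/
noncomputable abbrev mS : Spec (CommRingCat.of A) ⟶ Spec (CommRingCat.of k) :=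
  Spec.map (CommRingCat.ofHom (algebraMap k A))

/-- the chart `A¹ × Spec A` of `P¹ × Spec A` -/
noncomputable def sA : Spec (CommRingCat.of A[X]) ⟶ MorSch.P1Prod k (mS k A) :=
  pullback.lift (pt1 k (X : A[X])) (Spec.map (CommRingCat.ofHom (C : A →+* A[X]))) (by
    rw [pt1_toSpec, mS, ← Spec.map_comp]
    rfl)

lemma sA_fst : sA k A ≫ pullback.fst _ _ = pt1 k (X : A[X]) := pullback.lift_fst _ _ _

lemma sA_snd : sA k A ≫ pullback.snd _ _ = Spec.map (CommRingCat.ofHom (C : A →+* A[X])) := pullback.lift_snd _ _ _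

lemma isPullback_sA : IsPullback (Spec.map (CommRingCat.ofHom (Polynomial.mapRingHom (algebraMap k A)))) (sA k A)
    (aff k) (pullback.fst (ProjSpace.toSpec 1 k) (mS k A)) := by
  have h1 : IsPullback (Spec.map (CommRingCat.ofHom (Polynomial.mapRingHom (algebraMap k A))))
      (Spec.map (CommRingCat.ofHom (C : A →+* A[X]))) (Spec.map (CommRingCat.ofHom (C : k →+* k[X])))
      (Spec.map (CommRingCat.ofHom (algebraMap k A))) :=
    isPullback_SpecMap_of_isPushout _ _ _ _ Groth.Agent.Sga4h.H599.Geo.isPushout_poly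
  have h2 : IsPullback (pullback.fst (ProjSpace.toSpec 1 k) (mS k A)) (pullback.snd (ProjSpace.toSpec 1 k) (mS k A))
      (ProjSpace.toSpec 1 k) (mS k A) := IsPullback.of_hasPullback _ _
  refine IsPullback.of_bot (v₂₁ := pullback.snd _ _) (v₂₂ := ProjSpace.toSpec 1 k) (h₃₁ := mS k A) ?_ ?_ h2
  · have h3 : aff k ≫ ProjSpace.toSpec 1 k = Spec.map (CommRingCat.ofHom (C : k →+* k[X])) :=
      pt1_toSpec k (X : k[X])
    rw [sA_snd, h3]
    exact h1
  · rw [sA_fst, aff]
    have h4 := map_pt1 k ((Polynomial.mapAlgHom (Algebra.ofId k A) : k[X] →ₐ[k] A[X])) (X : k[X])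
    have h5 : (Polynomial.mapAlgHom (Algebra.ofId k A) : k[X] →ₐ[k] A[X]) (X : k[X]) = X := by
      simp
    rw [h5] at h4
    exact h4

instance isOpenImmersion_sA : IsOpenImmersion (sA k A) :=
  MorphismProperty.of_isPullback (P := @IsOpenImmersion) (isPullback_sA k A) inferInstance

variable {A}

/-- the open immersion of a basic open of the chart -/
noncomputable def jf (f : A[X]) : Spec (CommRingCat.of (Localization.Away f)) ⟶ MorSch.P1Prod k (mS k A) :=
  Spec.map (CommRingCat.ofHom (algebraMap A[X] (Localization.Away f))) ≫ sA k A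

instance isOpenImmersion_jf (f : A[X]) : IsOpenImmersion (jf k f) := by
  have : IsOpenImmersion (Spec.map (CommRingCat.ofHom (algebraMap A[X] (Localization.Away f)))) :=
    inferInstance
  rw [jf]
  infer_instance

/-- the projection to the parameter scheme -/
noncomputable def prj {A : Type u} [CommRing A] (f : A[X]) :
    Spec (CommRingCat.of (Localization.Away f)) ⟶ Spec (CommRingCat.of A) :=
  Spec.map (CommRingCat.ofHom ((algebraMap A[X] (Localization.Away f)).comp (C : A →+* A[X])))

lemma jf_snd (f : A[X]) : jf k f ≫ pullback.snd _ _ = prj f := by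
  rw [jf, Category.assoc, sA_snd, ← Spec.map_comp]
  rfl

lemma jf_toSpec (f : A[X]) : jf k f ≫ pullback.fst _ _ ≫ ProjSpace.toSpec 1 k =
    Spec.map (CommRingCat.ofHom (algebraMap k (Localization.Away f))) := by
  rw [jf, Category.assoc, ← Category.assoc (sA k A), sA_fst, pt1_toSpec, ← Spec.map_comp]
  congr 1

/-- A `k`-morphism `Spec A[X]_f ⟶ X` is a family of rational curves with parameter scheme `Spec A`. -/
theorem exists_ratFam [IsAlgClosed k] [IsDomain A] [Algebra.FiniteType k A] {X : Scheme.{u}}
    (pX : X ⟶ Spec (CommRingCat.of k)) (f : A[X]) (hf : f ≠ 0)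
    (e : Spec (CommRingCat.of (Localization.Away f)) ⟶ X)
    (he : e ≫ pX = Spec.map (CommRingCat.ofHom (algebraMap k (Localization.Away f)))) :
    ∃ F : MorSch.RatFam k pX, Set.range F.e.hom.base = Set.range e.base ∧
      ∀ b b' : Spec (CommRingCat.of (Localization.Away f)),
        prj f b = prj f b' →
        ∃ t t', F.toM.base t = F.toM.base t' ∧ F.e.hom.base t = e.base b ∧ F.e.hom.base t' = e.base b' := by
  have hint : IsIntegral (Spec (CommRingCat.of A)) := inferInstance
  have hft : LocallyOfFiniteType (mS k A) := by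
    rw [mS]
    have h1 : (algebraMap k A).FiniteType := (RingHom.finiteType_algebraMap).2 inferInstance
    exact (HasRingHomProperty.Spec_iff (P := @LocallyOfFiniteType)).2 h1
  have hI : IsIntegral (MorSch.P1Prod k (mS k A)) :=
    Groth.Agent.S1582.result k _ _ (ProjSpace.toSpec 1 k) (mS k A)
  have hne : Nontrivial (Localization.Away f) := by
    have : Nontrivial (Localization (Submonoid.powers f)) :=
      (IsLocalization.injective (Localization (Submonoid.powers f))
        (powers_le_nonZeroDivisors_of_noZeroDivisors hf)).nontrivial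
    exact this
  let W : (MorSch.P1Prod k (mS k A)).Opens := (jf k f).opensRange
  have hWne : (W : Set (MorSch.P1Prod k (mS k A))).Nonempty := by
    obtain ⟨z⟩ : Nonempty (Spec (CommRingCat.of (Localization.Away f))) := inferInstance
    exact ⟨jf k f z, z, rfl⟩
  have hcomm : ((jf k f).isoOpensRange.inv ≫ e) ≫ pX =
      W.ι ≫ pullback.fst (ProjSpace.toSpec 1 k) (mS k A) ≫ ProjSpace.toSpec 1 k := by
    rw [Category.assoc, he, ← jf_toSpec, ← Category.assoc]
    congr 1
    rw [Iso.inv_comp_eq]
    exact ((jf k f).isoOpensRange_hom_ι).symm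
  let F : MorSch.RatFam k pX :=
    { M := Spec (CommRingCat.of A)
      m := mS k A
      isVar := ⟨hint, inferInstance, hft, inferInstance⟩
      e := ⟨W, W.2.dense hWne, (jf k f).isoOpensRange.inv ≫ e⟩
      comm := hcomm }
  have hiso : ∀ b, F.e.hom.base ((jf k f).isoOpensRange.hom b) = e.base b := by
    intro b
    have h1 : (jf k f).isoOpensRange.hom ≫ (jf k f).isoOpensRange.inv ≫ e = e := by simp
    exact congrArg (fun q : Spec (CommRingCat.of (Localization.Away f)) ⟶ X => q b) h1
  have hisoM : ∀ b, F.toM.base ((jf k f).isoOpensRange.hom b) = prj f b := by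
    intro b
    have h1 : (jf k f).isoOpensRange.hom ≫ W.ι ≫ pullback.snd (ProjSpace.toSpec 1 k) (mS k A) = prj f := by
      rw [← Category.assoc, (jf k f).isoOpensRange_hom_ι, jf_snd]
    exact congrArg (fun q : Spec (CommRingCat.of (Localization.Away f)) ⟶ Spec (CommRingCat.of A) => q b) h1
  refine ⟨F, ?_, fun b b' hbb => ⟨(jf k f).isoOpensRange.hom b, (jf k f).isoOpensRange.hom b', ?_, hiso b, hiso b'⟩⟩
  · apply Set.Subset.antisymm
    · rintro _ ⟨t, rfl⟩
      refine ⟨(jf k f).isoOpensRange.inv t, ?_⟩
      rfl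
    · rintro _ ⟨b, rfl⟩
      exact ⟨_, hiso b⟩
  · rw [hisoM, hisoM]
    exact hbb

end K130.TupFam
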